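import Cfsg.Agent.H383.Rg.CMinus
import Cfsg.Agent.H383.Rg.OddE

/-!
# S3691, cases C+ and C-: the other factor has no elements of odd order with fixed vectors (helper383)

* `Sd.fpf_fac` : `Fac T X Y`, `E(q)` in the preimage of `X` (any type of `q`): a nontrivial element of odd order of the preimage of `Y`
  has no nonzero fixed vectors;
* `Sd.semireg` : if `X` fixes `q` then `Y` is semiregular on the forms `ac g q`;
* `card_orbit_minus` : number of the forms of minus type.
-/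

set_option autoImplicit false
set_option linter.unusedSectionVars false

namespace Cfsg.Agent.H383.Rg

open Module QuadraticMap
open Cfsg.Agent.LieClassical.OrthCore Cfsg.Agent.LieClassical.OrthTrans
open Cfsg.Agent.BpCl (Iso)
open Cfsg.Agent.H454.Reg Cfsg.Agent.H449.Reg

universe u v

variable {G : Type u} [Group G] {T : Subgroup G} {F : Type*} {V : Type v} [Field F] [Finite F] [CharP F 2]
  [AddCommGroup V] [Module F V] {f : LinearMap.BilinForm F V}

/-- the data from a factorization -/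
def Sd.ofFac {X Y : Subgroup G} (R : Real T (Iso (F := F) fun x y => f x y)) (hA : ∀ v, f v v = 0)
    (hnd : ∀ u, (∀ v, f u v = 0) → u = 0) (hne : ∃ v : V, v ≠ 0) (hfac : Fac T X Y) : Sd T f :=
  ⟨R, hA, hnd, hne, hfac.cent, hfac.normal⟩

/-- **no element of odd order with fixed vectors** -/
theorem Sd.fpf_fac [FiniteDimensional F V] [Finite G] (D : Sd T f) {X Y : Subgroup G} (hfac : Fac T X Y)
    (hd : 3 ≤ finrank F V) {q : V → F} (hq : IsQ f q) (hE : E hq.toQ ≤ D.pre X) {y : V ≃ₗ[F] V} (hy : y ∈ D.pre Y)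
    {r : ℕ} (hodd : Odd r) (hyr : y ^ r = 1) (hy1 : y ≠ 1) {v : V} (hv : y v = v) : v = 0 := by
  obtain ⟨hyI, hyY⟩ := D.mem_pre.1 hy
  obtain ⟨x0, rfl⟩ : ∃ x0 : Iso (F := F) fun x y => f x y, x0.1 = y := ⟨⟨y, hyI⟩, rfl⟩
  refine D.fpf_of hq hodd hyr (fun t ht h => ?_) hv
  obtain ⟨t', ht'⟩ := D.R.surj ⟨t, ht⟩
  obtain ⟨z, hz⟩ : ∃ z : Iso (F := F) fun x y => f x y, z = t'⁻¹ * x0 * t' := ⟨_, rfl⟩
  have hπz : (D.R.π z : G) = t⁻¹ * (D.R.π x0 : G) * t := by
    have h1 : (D.R.π t' : G) = t := congrArg Subtype.val ht'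
    rw [hz, map_mul, map_mul, map_inv, ← h1]
    rfl
  have hzr : z ^ r = 1 := by
    have h1 : x0 ^ r = 1 := Subtype.ext hyr
    have h2 : z ^ r = t'⁻¹ * x0 ^ r * t' := by
      have := conj_pow (a := t'⁻¹) (b := x0) (i := r)
      rw [inv_inv] at this
      rw [hz, this]
    rw [h2, h1, mul_one, inv_mul_cancel]
  have h1 : ∀ v, q (z.1 v) = q v := by
    intro v
    have h2 := D.ac_T z q v
    have h3 : D.ac (D.R.π z : G) q = q := by
      rw [hπz]
      exact h
    rw [h3] at h2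
    exact h2
  have h4 := odd_mem_E hq D.nd hd h1 hodd (congrArg Subtype.val hzr)
  obtain ⟨_, h5⟩ := D.mem_pre.1 (hE h4)
  have h5' : (D.R.π z : G) ∈ X := h5
  rw [hπz] at h5'
  have h6 := hfac.symm.not_conj hyY t⁻¹ (by rwa [inv_inv])
  apply hy1
  have h7 : x0 = 1 := by
    apply pi_inj (R := D.R) D.nd D.ne
    rw [map_one]
    exact Subtype.ext h6
  rw [h7]
  rfl

/-- `Y` is semiregular on the forms -/
theorem Sd.semireg [Finite G] (D : Sd T f) {X Y : Subgroup G} (hfac : Fac T X Y) {q : V → F} (hX : X = D.stab q)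
    {y : G} (hy : y ∈ Y) {t : G} (h : D.ac y (D.ac t q) = D.ac t q) : y = 1 := by
  have h1 := D.conj_stab h
  rw [← hX] at h1
  exact hfac.symm.not_conj hy t⁻¹ (by rwa [inv_inv])

end Cfsg.Agent.H383.Rg
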