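import Cfsg.Agent.H383.Rg.CMinus
import Cfsg.Agent.H383.Rg.OddE

/-!
# S3691, case C-: `no_alpha_max_minus` (helper383)

* `no_alpha_max_minus` : `T = Sp(V)`, `B ≥ E(q)`, `q` without totally singular subspaces of dimension `m`, `H` maximal,
  `r | |H ∩ T|`: the preimage of `H` has no nontrivial normal 2-subgroup.
-/

set_option autoImplicit false
set_option linter.unusedSectionVars false

namespace Cfsg.Agent.H383.Rg

open Module QuadraticMap
open Cfsg.Agent.LieClassical.OrthCore Cfsg.Agent.LieClassical.OrthTrans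
open Cfsg.Agent.BpCl (Iso)
open Cfsg.Agent.H454.Reg Cfsg.Agent.H449.Reg
open Cfsg.Agent.H934.ArfO (T_eq_zero T_sq exists_T_one)

local notation "Tr" => Cfsg.Agent.H934.ArfO.T

universe u v

variable {G : Type u} [Group G] {T : Subgroup G} {F : Type*} {V : Type v} [Field F] [Finite F] [CharP F 2]
  [AddCommGroup V] [Module F V] {f : LinearMap.BilinForm F V}

/-- the stabiliser of a subspace -/
def Sd.stW (D : Sd T f) (W : Submodule F V) : Subgroup G where
  carrier := {g | ∀ w, (D.lf g).1 w ∈ W ↔ w ∈ W}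
  mul_mem' {a b} ha hb w := by
    rw [D.lf_mul_apply, ha, hb]
  one_mem' w := by rw [D.lf_one_apply]
  inv_mem' {a} ha w := by
    have h := ha ((D.lf a⁻¹).1 w)
    rw [D.lf_apply_inv] at h
    exact h.symm

theorem Sd.stW_ne [FiniteDimensional F V] (D : Sd T f) {W : Submodule F V} (hW0 : W ≠ ⊥) (hWt : W ≠ ⊤) :
    ¬ T ≤ D.stW W := by
  intro hT
  obtain ⟨w, hw, hw0⟩ := (Submodule.ne_bot_iff W).1 hW0
  -- `f v w ≠ 0` for some `v ∉ W`
  obtain ⟨v, hvW, hv⟩ : ∃ v, v ∉ W ∧ f v w ≠ 0 := by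
    by_contra hcon
    push Not at hcon
    apply hw0
    apply D.nd
    intro x
    rw [symm_of_alt D.alt]
    by_cases hx : x ∈ W
    · obtain ⟨v, hv⟩ : ∃ v, v ∉ W := by
        by_contra h
        push Not at h
        exact hWt ((Submodule.eq_top_iff').2 h)
      have h1 := hcon v hv
      have h2 := hcon (x + v) (fun h => hv (by
        have := W.sub_mem h hx
        rwa [add_sub_cancel_left] at this))
      rw [map_add, LinearMap.add_apply, h1, add_zero] at h2
      exact h2
    · exact hcon x hx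
  have h1 := hT (D.R.π ⟨tv D.alt v 1, tv_mem D.alt v 1⟩).2 w
  rw [D.lf_T] at h1
  have h2 : tv D.alt v 1 w ∈ W := h1.2 hw
  rw [tv_apply, one_mul] at h2
  have h3 := W.sub_mem h2 hw
  rw [add_sub_cancel_left] at h3
  apply hvW
  have h4 := W.smul_mem (f v w)⁻¹ h3
  rwa [smul_smul, inv_mul_cancel₀ hv, one_smul] at h4

/-- **(alpha), case C-, maximal factor**: the factor `B` contains `E(q)` -/
theorem no_alpha_max_minus [FiniteDimensional F V] [Finite G] {H B : Subgroup G}
    (R : Real T (Iso (F := F) fun x y => f x y)) (hA : ∀ v, f v v = 0) (hnd : ∀ u, (∀ v, f u v = 0) → u = 0)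
    (hfac : Fac T H B) (hmax : IsCoatom H) {m : ℕ} (hm : 2 ≤ m) (hdim : finrank F V = 2 * m) {q : V → F} (hq : IsQ f q)
    (hmin : ¬ ∃ U : Submodule F V, finrank F U = m ∧ ∀ u ∈ U, q u = 0)
    (hE : ∀ x : Iso (F := F) fun x y => f x y, x.1 ∈ E hq.toQ → (R.π x : G) ∈ B) {r n : ℕ} (hr : r.Prime)
    (hF : Nat.card F ^ m = 2 ^ n) (hrn : orderOf (2 : ZMod r) = n) (hrH : r ∣ Nat.card (H.subgroupOf T))
    {N : Subgroup (Iso (F := F) fun x y => f x y)} (hN2 : IsPGroup 2 N) (hN1 : N ≠ ⊥)
    (hNH : ∀ x ∈ N, (R.π x : G) ∈ H)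
    (hNn : ∀ x : Iso (F := F) fun x y => f x y, (R.π x : G) ∈ H → ∀ g ∈ N, x * g * x⁻¹ ∈ N) : False := by
  have hTs : IsSimpleGroup T := hfac.simple
  have hTn : T.Normal := hfac.normal
  have hne : ∃ v : V, v ≠ 0 := by
    have : Nontrivial V := Module.nontrivial_of_finrank_pos (R := F) (by omega)
    exact exists_ne 0
  let D : Sd T f := ⟨R, hA, hnd, hne, hfac.cent, hfac.normal⟩
  have hfinV : Finite V := Module.finite_of_finite F
  have hFV : Nat.card V = 2 ^ (2 * n) := by
    rw [Module.natCard_eq_pow_finrank (K := F), hdim, mul_comm, pow_mul, hF, ← pow_mul, mul_comm]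
  have hF1 : 1 < Nat.card F := Finite.one_lt_card
  have hn : 0 < n := by
    rcases Nat.eq_zero_or_pos n with h | h
    · exfalso
      rw [h, pow_zero] at hF
      have := Nat.one_lt_pow (show m ≠ 0 by omega) hF1
      omega
    · exact h
  have hpiinj := pi_inj (R := R) hnd hne
  -- the element `y`
  obtain ⟨x0, hx0H, hx0r, hx01⟩ := D.exists_y hr hrH
  have hr2 : r ≠ 2 := by
    rintro rfl
    have h1 : orderOf (2 : ZMod 2) = 0 := by
      rw [orderOf_eq_zero_iff']
      intro k hk h2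
      have h3 : (2 : ZMod 2) = 0 := by decide
      rw [h3, zero_pow hk.ne'] at h2
      exact zero_ne_one h2
    omega
  have hodd : Odd r := hr.odd_of_ne_two hr2
  have hfpf : ∀ v, x0.1 v = v → v = 0 := by
    intro v hv
    refine D.fpf_of hq hodd hx0r (fun t ht h => ?_) hv
    obtain ⟨t', ht'⟩ := D.R.surj ⟨t, ht⟩
    obtain ⟨z, hz⟩ : ∃ z : Iso (F := F) fun x y => f x y, z = t'⁻¹ * x0 * t' := ⟨_, rfl⟩
    have hπz : (R.π z : G) = t⁻¹ * (R.π x0 : G) * t := by
      have h1 : (R.π t' : G) = t := congrArg Subtype.val ht'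
      rw [hz, map_mul, map_mul, map_inv, ← h1]
      rfl
    have hzr : z ^ r = 1 := by
      have h1 : x0 ^ r = 1 := Subtype.ext hx0r
      have h2 : z ^ r = t'⁻¹ * x0 ^ r * t' := by
        have := conj_pow (a := t'⁻¹) (b := x0) (i := r)
        rw [inv_inv] at this
        rw [hz, this]
      rw [h2, h1, mul_one, inv_mul_cancel]
    have h1 : ∀ v, q (z.1 v) = q v := by
      intro v
      have h2 := D.ac_T z q v
      have h3 : D.ac (D.R.π z : G) q = q := by
        change D.ac (R.π z : G) q = q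
        rw [hπz]
        exact h
      rw [h3] at h2
      exact h2
    have h4 := odd_mem_E hq hnd (by omega) h1 hodd (congrArg Subtype.val hzr)
    have h5 := hE z h4
    rw [hπz] at h5
    have h6 := hfac.not_conj hx0H t⁻¹ (by rwa [inv_inv])
    apply hx01
    apply hpiinj
    rw [map_one]
    exact Subtype.ext h6
  -- the fixed space of `N`
  have hpre : D.pre H ≤ Iso (F := F) fun x y => f x y := fun x hx => (D.mem_pre.1 hx).1
  have hyD : x0.1 ∈ D.pre H := D.mem_pre.2 ⟨x0.2, hx0H⟩
  have hN2' : IsPGroup 2 (N.map (Iso (F := F) fun x y => f x y).subtype) := hN2.map _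
  have hN1' : N.map (Iso (F := F) fun x y => f x y).subtype ≠ ⊥ := by
    intro h
    apply hN1
    exact (Subgroup.map_eq_bot_iff_of_injective _ (Subgroup.subtype_injective _)).1 h
  have hND : N.map (Iso (F := F) fun x y => f x y).subtype ≤ D.pre H := by
    rintro _ ⟨x, hx, rfl⟩
    exact D.mem_pre.2 ⟨x.2, hNH x hx⟩
  have hNn' : ∀ x ∈ D.pre H, ∀ g ∈ N.map (Iso (F := F) fun x y => f x y).subtype,
      x * g * x⁻¹ ∈ N.map (Iso (F := F) fun x y => f x y).subtype := by
    rintro x hx _ ⟨g, hg, rfl⟩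
    obtain ⟨h1, h2⟩ := D.mem_pre.1 hx
    exact ⟨⟨x, h1⟩ * g * ⟨x, h1⟩⁻¹, hNn ⟨x, h1⟩ h2 g hg, rfl⟩
  obtain ⟨W, hWfix, hWc, hti, hperp, hinv, huniq⟩ := exists_W hA hnd hn hr hrn hFV hpre hyD hx0r hfpf hN2' hN1' hND hNn'
  have hWm : finrank F W = m := by
    have h1 := Module.natCard_eq_pow_finrank (K := F) (V := W)
    rw [hWc, ← hF] at h1
    exact (Nat.pow_right_injective hF1 h1).symm
  have hHW := D.inv_of_uniq hWc hinv huniq
  -- `H` is the stabiliser of `W`
  have hHle : H ≤ D.stW W := by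
    intro h hh w
    constructor
    · intro h1
      have h2 := hHW h⁻¹ (H.inv_mem hh) _ h1
      rwa [D.lf_inv_apply] at h2
    · exact hHW h hh w
  have hW0 : W ≠ ⊥ := by
    rintro rfl
    rw [finrank_bot] at hWm
    omega
  have hWt : W ≠ ⊤ := by
    rintro rfl
    rw [finrank_top] at hWm
    omega
  have hH : H = D.stW W := by
    rcases hmax.le_iff.1 hHle with h | h
    · exfalso
      apply D.stW_ne hW0 hWt
      rw [h]
      exact le_top
    · exact h.symm
  -- a minus form and a Siegel transformation preserving `W`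
  obtain ⟨q0, hq0, h0⟩ := exists_zero_form hnd hq hti
  obtain ⟨v, hv⟩ := exists_sh hnd hq0 hq
  obtain ⟨u, huW, hu0, huv⟩ : ∃ u ∈ W, u ≠ 0 ∧ f v u = 0 := by
    by_contra hcon
    push Not at hcon
    have hinj : Function.Injective ((f v).comp W.subtype : W →ₗ[F] F) := by
      rw [injective_iff_map_eq_zero]
      intro w hw
      by_contra hw0
      exact hcon w.1 w.2 (fun h => hw0 (Subtype.ext h)) hw
    have h1 := LinearMap.finrank_le_finrank_of_injective hinj
    rw [hWm, finrank_self] at h1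
    omega
  have hqu : hq.toQ u = 0 := by
    change q u = 0
    rw [hv, sh_apply, h0 u huW, huv]
    ring
  obtain ⟨w', hw'1, hw'2⟩ : ∃ w', f u w' = 0 ∧ ∀ c : F, w' ≠ c • u := by
    -- `W` has dimension at least 2
    by_contra hcon
    push Not at hcon
    have h1 : W ≤ F ∙ u := by
      intro w hw
      obtain ⟨c, hc⟩ := hcon w (hti u huW w hw)
      rw [hc]
      exact Submodule.smul_mem _ _ (Submodule.mem_span_singleton_self u)
    have h2 := Submodule.finrank_mono h1
    rw [hWm, finrank_span_singleton hu0] at h2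
    omega
  have hpw : polar hq.toQ u w' = 0 := by rw [hq.polar, hw'1]
  set s := siegel hq.toQ u w' hqu hpw with hs
  have hsE : s ∈ E hq.toQ := siegel_mem_E hqu hpw
  have hsI : s ∈ Iso (F := F) fun x y => f x y := by
    intro x y
    have h5 := polar_map (E_le_O hsE) x y
    rwa [hq.polar, hq.polar] at h5
  have hsW : ∀ w ∈ W, s w ∈ W := by
    intro w hw
    rw [hs, sgl_apply hq hqu hpw, hti u huW w hw, zero_smul, add_zero, mul_zero, zero_smul, add_zero]
    exact W.add_mem hw (W.smul_mem _ huW)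
  have hss : ∀ x, s (s x) = x := by
    intro x
    have h1 : siegel hq.toQ u (w' + w') hqu (by rw [hq.polar, map_add, hw'1, add_zero]) = s * s := by
      rw [hs, siegel_mul]
    have h2 : (s * s) x = x := by
      rw [← h1, sgl_apply hq, vadd_self F w', smul_zero, map_zero f, LinearMap.zero_apply, zero_smul, hq.zero, zero_mul,
        zero_smul]
      simp
    exact h2
  have hsH : (R.π ⟨s, hsI⟩ : G) ∈ H := by
    rw [hH]
    intro w
    have h1 := D.lf_T ⟨s, hsI⟩ w
    have h2 : (D.lf (R.π ⟨s, hsI⟩ : G)).1 w = s w := h1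
    rw [h2]
    constructor
    · intro h
      have := hsW _ h
      rwa [hss] at this
    · exact hsW w
  have hsB : (R.π ⟨s, hsI⟩ : G) ∈ B := hE ⟨s, hsI⟩ hsE
  have h1 : (R.π ⟨s, hsI⟩ : G) ∈ H ⊓ B := ⟨hsH, hsB⟩
  rw [hfac.inf, Subgroup.mem_bot] at h1
  have h2 : (⟨s, hsI⟩ : Iso (F := F) fun x y => f x y) = 1 := by
    apply hpiinj
    rw [map_one]
    exact Subtype.ext h1
  -- but `s ≠ 1`
  obtain ⟨x, hx⟩ : ∃ x, f u x = 1 := by
    by_contra hcon
    push Not at hcon
    apply hu0
    apply hnd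
    intro v
    by_contra h1
    exact hcon ((f u v)⁻¹ • v) (by rw [map_smul, smul_eq_mul, inv_mul_cancel₀ h1])
  have h3 : s x = x := by
    have := congrArg (fun z : Iso (F := F) fun x y => f x y => z.1 x) h2
    exact this
  rw [hs, sgl_apply hq hqu hpw, hx, one_smul, mul_one, add_assoc, add_assoc] at h3
  have h4 := add_eq_left.1 h3
  rw [← add_smul] at h4
  apply hw'2 (f w' x + q w')
  have h5 := eq_neg_of_add_eq_zero_left h4
  rw [vneg F] at h5
  exact h5

end Cfsg.Agent.H383.Rg
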