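import Cfsg.Agent.H383.Rg.Ts
import Cfsg.Agent.H383.Rg.Fp
import Cfsg.Agent.H997.Rg.Lin

/-!
# S3691, cases C+ and C-: fixed point freeness and the order of the other factor (helper383)

* `Sd.fpf2` : `Fpf 2` for the natural action of the preimage of the other factor;
* `Sd.index_T` : `|G : T|` divides `f`, `|F| = 2 ^ f`;
* `Sd.card_pre_minus`, `Sd.card_pre_plus` : `|K0| e = δ 2 ^ (n - 1) (2 ^ n ∓ 1)`, `e | |G : T|`, `δ = 1, 2`
-/

set_option autoImplicit false
set_option linter.unusedSectionVars false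

namespace Cfsg.Agent.H383.Rg

open Module QuadraticMap
open Cfsg.Agent.LieClassical.OrthCore Cfsg.Agent.LieClassical.OrthTrans
open Cfsg.Agent.BpCl (Iso)
open Cfsg.Agent.H454.Reg Cfsg.Agent.H449.Reg
open Cfsg.Agent.H934.ArfO (T_eq_zero T_sq exists_T_one)

local notation "Tr" => Cfsg.Agent.H934.ArfO.T

universe u v

/-- the natural representation -/
def natR {F V : Type*} [Field F] [AddCommGroup V] [Module F V] (K : Subgroup (V ≃ₗ[F] V)) : K →* Module.End F V where
  toFun k := (k.1 : V →ₗ[F] V)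
  map_one' := rfl
  map_mul' _ _ := rfl

theorem natR_apply {F V : Type*} [Field F] [AddCommGroup V] [Module F V] (K : Subgroup (V ≃ₗ[F] V)) (k : K) (v : V) :
    natR K k v = k.1 v := rfl

variable {G : Type u} [Group G] {T : Subgroup G} {F : Type*} {V : Type v} [Field F] [Finite F] [CharP F 2]
  [AddCommGroup V] [Module F V] {f : LinearMap.BilinForm F V}

/-- **`Fpf 2`** -/
theorem Sd.fpf2 [FiniteDimensional F V] [Finite G] (D : Sd T f) {X Y : Subgroup G} (hfac : Fac T X Y)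
    (hd : 3 ≤ finrank F V) {q : V → F} (hq : IsQ f q) (hE : E hq.toQ ≤ D.pre X) :
    H997.Rg.Fpf 2 (natR (D.pre Y)) := by
  intro g hg hg2 v hv
  refine D.fpf_fac hfac hd hq hE g.2 (r := orderOf g) (hg.odd_of_ne_two hg2) ?_ ?_ hv
  · have h1 := congrArg Subtype.val (pow_orderOf_eq_one g)
    exact h1
  · intro h
    have h1 : g = 1 := Subtype.ext h
    rw [h1, orderOf_one] at hg
    exact Nat.not_prime_one hg

/-- the order of the preimage -/
theorem Sd.card_pre (D : Sd T f) (Y : Subgroup G) : Nat.card (D.pre Y) = Nat.card (Y.subgroupOf T) := by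
  have h1 : Nat.card (D.pre Y) = Nat.card ((Y.comap T.subtype).comap D.R.π) :=
    Subgroup.card_map_of_injective (Subgroup.subtype_injective _)
  rw [h1]
  refine Nat.card_congr (Equiv.ofBijective (fun x : ((Y.comap T.subtype).comap D.R.π) =>
    (⟨D.R.π x.1, x.2⟩ : Y.subgroupOf T)) ⟨?_, ?_⟩)
  · intro a b hab
    apply Subtype.ext
    exact pi_inj (R := D.R) D.nd D.ne (congrArg Subtype.val hab)
  · rintro ⟨t, ht⟩
    obtain ⟨x, rfl⟩ := D.R.surj t
    exact ⟨⟨x, ht⟩, rfl⟩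

/-- `|G : T|` divides the order of the group of automorphisms of `F` -/
theorem Sd.index_T_dvd (D : Sd T f) : T.index ∣ Nat.card (F ≃+* F) := by
  let φ : G →* (F ≃+* F) :=
    { toFun := fun g => D.sg g
      map_one' := RingEquiv.ext fun a => D.sg_one a
      map_mul' := fun a b => RingEquiv.ext fun c => D.sg_mul a b c }
  have h1 : φ.ker = T := by
    ext g
    rw [MonoidHom.mem_ker]
    constructor
    · intro h
      exact D.mem_T fun a => by
        have := congrArg (fun σ : F ≃+* F => σ a) h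
        exact this
    · intro h
      exact RingEquiv.ext fun a => D.sg_T h a
  rw [← h1, Subgroup.index_ker]
  exact Subgroup.card_subgroup_dvd_card _

theorem card_aut {k : ℕ} (hk : Nat.card F = 2 ^ k) : Nat.card (F ≃+* F) = k := by
  have : Fact (Nat.Prime 2) := ⟨Nat.prime_two⟩
  let iA : Algebra (ZMod 2) F := ZMod.algebra F 2
  have hfin : FiniteDimensional (ZMod 2) F := Module.Finite.of_finite
  have h1 : Nat.card (F ≃ₐ[ZMod 2] F) = finrank (ZMod 2) F := IsGalois.card_aut_eq_finrank (ZMod 2) F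
  have h2 : finrank (ZMod 2) F = k := by
    have h3 := Module.natCard_eq_pow_finrank (K := ZMod 2) (V := F)
    rw [hk, Nat.card_zmod] at h3
    exact (Nat.pow_right_injective le_rfl h3).symm
  rw [← h2, ← h1]
  refine Nat.card_congr
    { toFun := fun σ => AlgEquiv.ofRingEquiv (f := σ) fun a => ?_
      invFun := fun σ => σ.toRingEquiv
      left_inv := fun σ => rfl
      right_inv := fun σ => rfl }
  have h4 : ((σ : F →+* F).comp (algebraMap (ZMod 2) F)) = algebraMap (ZMod 2) F := RingHom.ext_zmod _ _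
  exact congrArg (fun g : ZMod 2 →+* F => g a) h4

/-- `|G : T|` divides `k`, `|F| = 2 ^ k` -/
theorem Sd.index_T (D : Sd T f) {k : ℕ} (hk : Nat.card F = 2 ^ k) : T.index ∣ k := by
  rw [← card_aut hk]
  exact D.index_T_dvd

/-- between `E(q)` and `O(q)` -/
theorem index_O [FiniteDimensional F V] (hnd : ∀ u, (∀ v, f u v = 0) → u = 0) {q : V → F} (hq : IsQ f q)
    (hd : 3 ≤ finrank F V) {P : Subgroup (V ≃ₗ[F] V)} (hEP : E hq.toQ ≤ P) (hPO : P ≤ O hq.toQ) [Finite V] :
    ∃ δ, (δ = 1 ∨ δ = 2) ∧ Nat.card (O hq.toQ) = δ * Nat.card P := by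
  have hprod : ∀ a ∈ O hq.toQ, ∀ b ∈ O hq.toQ, a ∉ P → b ∉ P → a * b ∈ P := by
    intro a ha b hb haP hbP
    rcases E_or hq hnd hd ha with h1 | ⟨v, hv, e, he, rfl⟩
    · exact absurd (hEP h1) haP
    rcases E_or hq hnd hd hb with h2 | ⟨w, hw, e', he', rfl⟩
    · exact absurd (hEP h2) hbP
    have e1 : e * refl hq.toQ v hv * (e' * refl hq.toQ w hw) =
        e * (refl hq.toQ v hv * e' * (refl hq.toQ v hv)⁻¹) * (refl hq.toQ v hv * refl hq.toQ w hw) := by group
    rw [e1]
    exact hEP (mul_mem (mul_mem he (conj_mem_E (refl_mem_O hv) he')) (rf_rf hq hnd hd hv hw))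
  have h1 : (P.subgroupOf (O hq.toQ)).index = 1 ∨ (P.subgroupOf (O hq.toQ)).index = 2 := by
    by_cases h : P.subgroupOf (O hq.toQ) = ⊤
    · left; rw [h]; exact Subgroup.index_top
    · right
      rw [Subgroup.index_eq_two_iff]
      obtain ⟨a, ha⟩ : ∃ a, a ∉ P.subgroupOf (O hq.toQ) := by
        by_contra hcon
        push Not at hcon
        exact h ((Subgroup.eq_top_iff' _).2 hcon)
      refine ⟨a, fun b => ?_⟩
      by_cases hb : b ∈ P.subgroupOf (O hq.toQ)
      · right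
        refine ⟨hb, fun h2 => ha ?_⟩
        have := mul_mem (inv_mem hb) h2
        rwa [inv_mul_cancel_left] at this
      · left
        exact ⟨hprod b b.2 a a.2 hb ha, hb⟩
  have h2 := Subgroup.card_mul_index (P.subgroupOf (O hq.toQ))
  have h3 : Nat.card (P.subgroupOf (O hq.toQ)) = Nat.card P :=
    Nat.card_congr (Subgroup.subgroupOfEquivOfLe hPO).toEquiv
  rw [h3] at h2
  exact ⟨_, h1, by rw [← h2, mul_comm]⟩

/-- the orbit of `q` -/
def Sd.Orb (D : Sd T f) (q : V → F) : Type _ := {q' : V → F // ∃ t ∈ T, D.ac t q = q'}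

/-- `|T| = |O(q)| |Orb|` -/
theorem Sd.card_T [Finite G] (D : Sd T f) {q : V → F} (hq : IsQ f q) :
    Nat.card T = Nat.card (O hq.toQ) * Nat.card (D.Orb q) := by
  let actT : MulAction T (V → F) :=
    { smul := fun t q => D.ac (t : G) q
      one_smul := fun q => D.ac_one q
      mul_smul := fun a b q => D.ac_mul a b q }
  have h1 := MulAction.index_stabilizer T q
  have h2 := Subgroup.card_mul_index (MulAction.stabilizer T q)
  rw [h1] at h2
  rw [← h2]
  congr 1
  · refine (Nat.card_congr (Equiv.ofBijective (fun x : O hq.toQ => (⟨D.R.π ⟨x.1, ?_⟩, ?_⟩ : MulAction.stabilizer T q)) ⟨?_, ?_⟩)).symm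
    · intro u v
      have h5 := polar_map x.2 u v
      rwa [hq.polar, hq.polar] at h5
    · exact D.ac_eq_of_T _ rfl x.2
    · intro a b hab
      apply Subtype.ext
      exact congrArg (fun z : Iso (F := F) fun x y => f x y => z.1) (pi_inj (R := D.R) D.nd D.ne (congrArg Subtype.val hab))
    · rintro ⟨t, ht⟩
      obtain ⟨x, rfl⟩ := D.R.surj t
      have h3 : D.ac (D.R.π x : G) q = q := ht
      refine ⟨⟨x.1, fun v => ?_⟩, rfl⟩
      have h4 := D.ac_T x q v
      rw [h3] at h4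
      exact h4
  · refine Nat.card_congr (Equiv.ofBijective (fun z : MulAction.orbit T q => (⟨z.1, ?_⟩ : D.Orb q)) ⟨?_, ?_⟩)
    · obtain ⟨t, ht⟩ := z.2
      exact ⟨t, t.2, ht⟩
    · intro a b hab
      apply Subtype.ext
      exact congrArg (fun z : D.Orb q => z.1) hab
    · rintro ⟨z, t, ht, hz⟩
      exact ⟨⟨z, ⟨⟨t, ht⟩, hz⟩⟩, rfl⟩

/-- **the order of the preimage of the other factor** -/
theorem Sd.card_pre_eq [FiniteDimensional F V] [Finite G] (D : Sd T f) {X Y : Subgroup G} (hfac : Fac T X Y)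
    {q : V → F} (hq : IsQ f q) (hd : 4 ≤ finrank F V) (hF : 2 < Nat.card F ∨ 6 ≤ finrank F V)
    (hE : E hq.toQ ≤ D.pre X) : ∃ e δ, e ∣ T.index ∧ (δ = 1 ∨ δ = 2) ∧
      Nat.card (D.pre Y) * e = δ * Nat.card (D.Orb q) := by
  have hTs : IsSimpleGroup T := hfac.simple
  have hfinV : Finite V := Module.finite_of_finite F
  have hPO : D.pre X ≤ O hq.toQ := by
    intro x hx v
    obtain ⟨h1, h2⟩ := D.mem_pre.1 hx
    have h3 := D.stab_of_le hfac.not_le_left hq hd hF hE h2
    have h4 := D.ac_T ⟨x, h1⟩ q v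
    rw [h3] at h4
    exact h4
  obtain ⟨δ, hδ, h1⟩ := index_O D.nd hq (by omega) hE hPO
  obtain ⟨e, he, -, h2⟩ := hfac.card0
  refine ⟨e, δ, he, hδ, ?_⟩
  rw [← D.card_pre, ← D.card_pre, D.card_T hq, h1] at h2
  have hfinP : Finite (D.pre X) := by
    have : Finite (V ≃ₗ[F] V) := Finite.of_injective (fun g : V ≃ₗ[F] V => (g : V → V)) DFunLike.coe_injective
    infer_instance
  have h3 : 0 < Nat.card (D.pre X) := Nat.card_pos
  apply Nat.eq_of_mul_eq_mul_left h3
  rw [← mul_assoc, h2]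
  ring

/-- **minus type** -/
theorem Sd.card_orb_minus [FiniteDimensional F V] [Finite G] (D : Sd T f) {q : V → F} (hq : IsQ f q) {m n : ℕ}
    (hn : 0 < n) (hdim : finrank F V = 2 * m) (hF : Nat.card F ^ m = 2 ^ n)
    (hmin : ¬ ∃ U : Submodule F V, finrank F U = m ∧ ∀ u ∈ U, q u = 0) :
    Nat.card (D.Orb q) = 2 ^ (n - 1) * (2 ^ n - 1) := by
  have hfinV : Finite V := Module.finite_of_finite F
  obtain ⟨W, hti, hperp⟩ := exists_lagr (f := f) D.alt
  have hW : finrank F W = m := by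
    have := finrank_lagr D.alt D.nd hti hperp
    omega
  have hcW : Nat.card W = 2 ^ n := by rw [Module.natCard_eq_pow_finrank (K := F), hW, hF]
  have hcV : Nat.card V = 2 ^ (2 * n) := by
    rw [Module.natCard_eq_pow_finrank (K := F), hdim, mul_comm, pow_mul, hF, ← pow_mul, mul_comm]
  obtain ⟨q0, hq0, h0⟩ := exists_zero_form D.nd hq hti
  rw [← card_tr_one hn hperp hq0 h0 hcW hcV]
  refine (Nat.card_congr (Equiv.ofBijective (fun v : {v : V // Tr (q0 v) = 1} => (⟨sh f q0 v, ?_⟩ : D.Orb q))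
    ⟨?_, ?_⟩)).symm
  · exact D.exists_orb hq hmin hW hq0 h0 v.2
  · intro a b hab
    apply Subtype.ext
    exact sh_inj D.nd (congrArg Subtype.val hab)
  · rintro ⟨_, t, ht, rfl⟩
    obtain ⟨v, hv⟩ := exists_sh D.nd hq0 (D.ac_isQ t hq)
    exact ⟨⟨v, D.orb_typ hmin hW hq0 h0 hv⟩, Subtype.ext hv.symm⟩

/-- **plus type** -/
theorem Sd.card_orb_plus [FiniteDimensional F V] [Finite G] (D : Sd T f) {q : V → F} (hq : IsQ f q) {m n : ℕ}
    (hn : 0 < n) (hdim : finrank F V = 2 * m) (hF : Nat.card F ^ m = 2 ^ n) {W : Submodule F V} (hW : finrank F W = m)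
    (h0 : ∀ w ∈ W, q w = 0) : Nat.card (D.Orb q) = 2 ^ (n - 1) * (2 ^ n + 1) := by
  have hfinV : Finite V := Module.finite_of_finite F
  have hti : ∀ u ∈ W, ∀ v ∈ W, f u v = 0 := by
    intro u hu v hv
    have h1 := hq.add u v
    rw [h0 _ (W.add_mem hu hv), h0 _ hu, h0 _ hv, zero_add, zero_add] at h1
    exact h1.symm
  have hperp := perp_of_finrank D.alt D.nd hti (by omega)
  have hcW : Nat.card W = 2 ^ n := by rw [Module.natCard_eq_pow_finrank (K := F), hW, hF]
  have hcV : Nat.card V = 2 ^ (2 * n) := by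
    rw [Module.natCard_eq_pow_finrank (K := F), hdim, mul_comm, pow_mul, hF, ← pow_mul, mul_comm]
  rw [← card_tr_zero hn hperp hq h0 hcW hcV]
  refine (Nat.card_congr (Equiv.ofBijective (fun v : {v : V // Tr (q v) = 0} => (⟨sh f q v, ?_⟩ : D.Orb q))
    ⟨?_, ?_⟩)).symm
  · obtain ⟨c, hc⟩ := exists_tv D.alt hq v.2
    -- `q (tv x) = sh q v x`
    refine ⟨(D.R.π ⟨tv D.alt v c, tv_mem D.alt v c⟩ : G)⁻¹, T.inv_mem (D.R.π ⟨tv D.alt v c, tv_mem D.alt v c⟩).2, ?_⟩
    have h1 : D.ac (D.R.π ⟨tv D.alt v c, tv_mem D.alt v c⟩ : G) (sh f q v) = q :=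
      D.ac_eq_of_T ⟨tv D.alt v c, tv_mem D.alt v c⟩ rfl hc
    have h2 := congrArg (D.ac (D.R.π ⟨tv D.alt v c, tv_mem D.alt v c⟩ : G)⁻¹) h1
    rw [← D.ac_mul, inv_mul_cancel, D.ac_one] at h2
    exact h2.symm
  · intro a b hab
    apply Subtype.ext
    exact sh_inj D.nd (congrArg Subtype.val hab)
  · rintro ⟨_, t, ht, rfl⟩
    obtain ⟨v, hv⟩ := exists_sh D.nd hq (D.ac_isQ t hq)
    have h1 : Tr (q v) = 0 := by
      by_contra h2
      refine minus_no_ts hq hperp h0 hW (two_eq h2) (U := simg (D.lf t) W) (by rw [finrank_simg, hW]) ?_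
      rintro _ ⟨w, hw, rfl⟩
      rw [← hv, D.ac_apply, h0 w hw, map_zero]
    exact ⟨⟨v, h1⟩, Subtype.ext hv.symm⟩

end Cfsg.Agent.H383.Rg
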