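import Cfsg.Agent.H383.Rg.CMinus
import Cfsg.Agent.H383.Rg.OddE

/-!
# S3691, cases C+ and C-: the two types of quadratic forms, characteristic 2 (helper383)

* `exists_lagr`, `finrank_lagr` : maximal totally isotropic subspaces;
* `no_ts` : the counting argument; `minus_no_ts` : `q0 = 0` on `W`, the trace of `q0 v` is one: `sh f q0 v` vanishes on no subspace of
  dimension `m`;
* `card_tr_one`, `card_tr_zero` : `2 ^ (n - 1) (2 ^ n ∓ 1)` vectors with trace of `q0 v` equal to one (zero).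
-/

set_option autoImplicit false
set_option linter.unusedSectionVars false

namespace Cfsg.Agent.H383.Rg

open Module QuadraticMap
open Cfsg.Agent.LieClassical.OrthCore Cfsg.Agent.LieClassical.OrthTrans
open Cfsg.Agent.BpCl (Iso)
open Cfsg.Agent.H934.ArfO (T_eq_zero T_sq exists_T_one)

local notation "Tr" => Cfsg.Agent.H934.ArfO.T

variable {F V : Type*} [Field F] [Finite F] [CharP F 2] [AddCommGroup V] [Module F V]
  {f : LinearMap.BilinForm F V}

theorem nondegen (hA : ∀ v, f v v = 0) (hnd : ∀ u, (∀ v, f u v = 0) → u = 0) : f.Nondegenerate :=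
  ⟨fun x hx => hnd x fun y => hx y, fun x hx => hnd x fun y => by rw [symm_of_alt hA]; exact hx y⟩

/-- a maximal totally isotropic subspace -/
theorem exists_lagr [FiniteDimensional F V] (hA : ∀ v, f v v = 0) : ∃ W : Submodule F V,
    (∀ u ∈ W, ∀ v ∈ W, f u v = 0) ∧ ∀ u, (∀ w ∈ W, f u w = 0) → u ∈ W := by
  have hs := symm_of_alt hA
  obtain ⟨W, hW, hmax⟩ := wellFounded_gt.has_min {W : Submodule F V | ∀ u ∈ W, ∀ v ∈ W, f u v = 0}
    ⟨⊥, by
      intro u hu v _
      rw [(Submodule.mem_bot F).1 hu, map_zero, LinearMap.zero_apply]⟩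
  refine ⟨W, hW, fun u hu => ?_⟩
  by_contra huW
  refine hmax (W ⊔ F ∙ u) ?_ (lt_of_le_of_ne le_sup_left fun h => huW ?_)
  · intro x hx y hy
    obtain ⟨a, ha, b, hb, rfl⟩ := Submodule.mem_sup.1 hx
    obtain ⟨a', ha', b', hb', rfl⟩ := Submodule.mem_sup.1 hy
    obtain ⟨c, rfl⟩ := Submodule.mem_span_singleton.1 hb
    obtain ⟨c', rfl⟩ := Submodule.mem_span_singleton.1 hb'
    rw [map_add, map_add, LinearMap.add_apply, LinearMap.add_apply, map_smul, map_smul, map_smul, LinearMap.smul_apply,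
      LinearMap.smul_apply, hW a ha a' ha', hs a u, hu a ha, hu a' ha', hA]
    simp
  · rw [h]
    exact Submodule.mem_sup_right (Submodule.mem_span_singleton_self u)

theorem finrank_lagr [FiniteDimensional F V] (hA : ∀ v, f v v = 0) (hnd : ∀ u, (∀ v, f u v = 0) → u = 0)
    {W : Submodule F V} (hti : ∀ u ∈ W, ∀ v ∈ W, f u v = 0) (hperp : ∀ u, (∀ w ∈ W, f u w = 0) → u ∈ W) :
    2 * finrank F W = finrank F V := by
  have h1 := LinearMap.BilinForm.finrank_orthogonal (nondegen hA hnd) W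
  have h2 : f.orthogonal W = W := by
    apply le_antisymm
    · intro x hx
      apply hperp
      intro w hw
      rw [symm_of_alt hA]
      exact hx w hw
    · intro x hx w hw
      exact hti w hw x hx
  rw [h2] at h1
  have h3 := Submodule.finrank_le W
  omega

theorem perp_of_finrank [FiniteDimensional F V] (hA : ∀ v, f v v = 0) (hnd : ∀ u, (∀ v, f u v = 0) → u = 0)
    {W : Submodule F V} (hti : ∀ u ∈ W, ∀ v ∈ W, f u v = 0) (hW : 2 * finrank F W = finrank F V) :
    ∀ u, (∀ w ∈ W, f u w = 0) → u ∈ W := by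
  intro u hu
  have h1 := LinearMap.BilinForm.finrank_orthogonal (nondegen hA hnd) W
  have h2 : W ≤ f.orthogonal W := by
    intro x hx w hw
    exact hti w hw x hx
  have h3 : W = f.orthogonal W := Submodule.eq_of_le_of_finrank_eq h2 (by omega)
  rw [h3]
  intro w hw
  change f w u = 0
  rw [symm_of_alt hA]
  exact hu w hw

/-- **the counting argument** -/
theorem no_ts [FiniteDimensional F V] {q : V → F} (hq : IsQ f q) {m : ℕ} {W : Submodule F V} (hW : finrank F W + 1 = m)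
    (hsing : ∀ u, (∀ w ∈ W, f u w = 0) → q u = 0 → u ∈ W) {U : Submodule F V} (hU : finrank F U = m)
    (hU0 : ∀ u ∈ U, q u = 0) : False := by
  let φ : U →ₗ[F] Module.Dual F W := (LinearMap.lcomp F F W.subtype).comp
    (LinearMap.comp (f : V →ₗ[F] V →ₗ[F] F) U.subtype)
  have hφ : ∀ (u : U) (w : W), φ u w = f u w := fun u w => rfl
  let X : Submodule F W := U.comap W.subtype
  have h1 := LinearMap.finrank_range_add_finrank_ker φ
  have h2 : finrank F (LinearMap.ker φ) ≤ finrank F X := by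
    have hmem : ∀ u : LinearMap.ker φ, (u.1 : V) ∈ W := by
      intro u
      apply hsing
      · intro w hw
        exact LinearMap.congr_fun (LinearMap.mem_ker.1 u.2) ⟨w, hw⟩
      · exact hU0 _ u.1.2
    let g : LinearMap.ker φ →ₗ[F] X :=
      { toFun := fun u => ⟨⟨u.1, hmem u⟩, u.1.2⟩
        map_add' := fun _ _ => rfl
        map_smul' := fun _ _ => rfl }
    refine LinearMap.finrank_le_finrank_of_injective (f := g) ?_
    intro a b hab
    apply Subtype.ext
    apply Subtype.ext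
    exact congrArg (fun z : X => ((z.1 : W) : V)) hab
  have h3 : LinearMap.range φ ≤ X.dualAnnihilator := by
    rintro _ ⟨u, rfl⟩
    rw [Submodule.mem_dualAnnihilator]
    intro w hw
    rw [hφ]
    have hwU : (w : V) ∈ U := hw
    have h4 := hq.add u w
    rw [hU0 _ (U.add_mem u.2 hwU), hU0 _ u.2, hU0 _ hwU, zero_add, zero_add] at h4
    exact h4.symm
  have h5 := Submodule.finrank_mono h3
  have h6 := Subspace.finrank_add_finrank_dualAnnihilator_eq X
  omega

/-- **the form of minus type** -/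
theorem minus_no_ts [FiniteDimensional F V] {q0 : V → F} (hq : IsQ f q0)
    {W : Submodule F V} (hperp : ∀ u, (∀ w ∈ W, f u w = 0) → u ∈ W) (h0 : ∀ w ∈ W, q0 w = 0) {m : ℕ} (hW : finrank F W = m)
    {v : V} (hv : Tr (q0 v) = 1) {U : Submodule F V} (hU : finrank F U = m) (hU0 : ∀ u ∈ U, sh f q0 v u = 0) : False := by
  have hA := hq.self
  have hs := symm_of_alt hA
  have hvW : v ∉ W := fun h => by
    rw [h0 v h, map_zero] at hv
    exact zero_ne_one hv
  obtain ⟨w1, hw1, hvw1⟩ : ∃ w1 ∈ W, f v w1 = 1 := by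
    by_contra hcon
    push Not at hcon
    apply hvW
    apply hperp
    intro w hw
    by_contra h1
    exact hcon ((f v w)⁻¹ • w) (W.smul_mem _ hw) (by rw [map_smul, smul_eq_mul, inv_mul_cancel₀ h1])
  let g : W →ₗ[F] F := (f v).comp W.subtype
  have hg : ∀ w : W, g w = f v w := fun w => rfl
  have hsurj : LinearMap.range g = ⊤ := by
    rw [LinearMap.range_eq_top]
    intro a
    exact ⟨a • ⟨w1, hw1⟩, by rw [map_smul, hg, hvw1, smul_eq_mul, mul_one]⟩
  have h1 := LinearMap.finrank_range_add_finrank_ker g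
  rw [hsurj, finrank_top, finrank_self, hW] at h1
  set W1 : Submodule F V := (LinearMap.ker g).map W.subtype with hW1
  have hW1mem : ∀ w, w ∈ W1 ↔ w ∈ W ∧ f v w = 0 := by
    intro w
    constructor
    · rintro ⟨x, hx, rfl⟩
      exact ⟨x.2, LinearMap.mem_ker.1 hx⟩
    · rintro ⟨h2, h3⟩
      exact ⟨⟨w, h2⟩, LinearMap.mem_ker.2 h3, rfl⟩
  have hW1f : finrank F W1 + 1 = m := by
    rw [hW1, Submodule.finrank_map_subtype_eq]
    omega
  refine no_ts (hq.sh v) hW1f ?_ hU hU0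
  intro u hu hqu
  -- `u = u' + c v`
  obtain ⟨c, hc⟩ : ∃ c, c = f u w1 := ⟨_, rfl⟩
  have hu' : u + c • v ∈ W := by
    apply hperp
    intro w hw
    have h2 : w + f v w • w1 ∈ W1 := by
      rw [hW1mem]
      refine ⟨W.add_mem hw (W.smul_mem _ hw1), ?_⟩
      rw [map_add, map_smul, hvw1, smul_eq_mul, mul_one, add_self']
    have h3 := hu _ h2
    rw [map_add, map_smul, smul_eq_mul, ← hc] at h3
    rw [map_add, LinearMap.add_apply, map_smul, LinearMap.smul_apply, smul_eq_mul, mul_comm]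
    exact h3
  obtain ⟨u', hu'd⟩ : ∃ u', u' = u + c • v := ⟨_, rfl⟩
  have hu2 : u = u' + c • v := by rw [hu'd, add_assoc, vadd_self F, add_zero]
  rw [← hu'd] at hu'
  by_cases hc0 : c = 0
  · rw [hc0, zero_smul, add_zero] at hu2
    rw [hu2, sh_apply, h0 u' hu', zero_add] at hqu
    rw [hu2, hW1mem]
    exact ⟨hu', pow_eq_zero_iff (two_ne_zero) |>.1 hqu⟩
  · exfalso
    rw [sh_apply, hu2, hq.add, h0 u' hu', hq.smul, map_smul, map_add, map_smul, hA, smul_zero, add_zero, zero_add,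
      smul_eq_mul, hs u' v] at hqu
    have h2 : Tr (q0 v) = 0 := by
      rw [T_eq_zero]
      refine ⟨f v u' / c, ?_⟩
      field_simp
      have h3 := add_self' (q0 v * c ^ 2)
      linear_combination hqu - h3
    rw [h2] at hv
    exact zero_ne_one hv

section count

variable {W : Submodule F V} {q0 : V → F} {n : ℕ}

theorem exists_w' (hperp : ∀ u, (∀ w ∈ W, f u w = 0) → u ∈ W) {v : V} (hv : v ∉ W) : ∃ w ∈ W, Tr (f v w) = 1 := by
  obtain ⟨w, hw, h⟩ : ∃ w ∈ W, f v w ≠ 0 := by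
    by_contra hcon
    push Not at hcon
    exact hv (hperp v hcon)
  obtain ⟨z, hz⟩ := exists_T_one F
  exact ⟨(z / f v w) • w, W.smul_mem _ hw, by rw [map_smul, smul_eq_mul, div_mul_cancel₀ _ h, hz]⟩

theorem card_half' [Finite V] (hperp : ∀ u, (∀ w ∈ W, f u w = 0) → u ∈ W) (hq : IsQ f q0) (h0 : ∀ w ∈ W, q0 w = 0)
    (hcW : Nat.card W = 2 ^ n) {v : V} (hv : v ∉ W) : 2 * Nat.card {w : W // Tr (q0 (v + w)) = 1} = 2 ^ n := by
  let φ : W →+ ZMod 2 :=
    { toFun := fun w => Tr (f v w)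
      map_zero' := by rw [Submodule.coe_zero, map_zero, map_zero]
      map_add' := fun a b => by rw [Submodule.coe_add, map_add, map_add] }
  obtain ⟨w, hw, h⟩ := exists_w' hperp hv
  have h1 := card_fib φ ⟨⟨w, hw⟩, h⟩ (1 + Tr (q0 v))
  rw [hcW] at h1
  rw [← h1]
  congr 1
  refine Nat.card_congr (Equiv.subtypeEquivRight fun a => ?_)
  change Tr (q0 (v + a)) = 1 ↔ Tr (f v a) = 1 + Tr (q0 v)
  rw [hq.add, h0 a a.2, add_zero, map_add]
  have h2 : ∀ x y : ZMod 2, x + y = 1 ↔ y = 1 + x := by decide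
  exact h2 _ _

theorem card_tr_one [Finite V] (hn : 0 < n) (hperp : ∀ u, (∀ w ∈ W, f u w = 0) → u ∈ W) (hq : IsQ f q0)
    (h0 : ∀ w ∈ W, q0 w = 0) (hcW : Nat.card W = 2 ^ n) (hcV : Nat.card V = 2 ^ (2 * n)) :
    Nat.card {v : V // Tr (q0 v) = 1} = 2 ^ (n - 1) * (2 ^ n - 1) := by
  classical
  have := Fintype.ofFinite V
  have h1 : ∑ v : V, ∑ w : W, (if Tr (q0 (v + w)) = 1 then 1 else 0) =
      ∑ v : V, (if v ∈ W then 0 else 2 ^ (n - 1)) := by
    refine Finset.sum_congr rfl fun v _ => ?_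
    split_ifs with hv
    · refine Finset.sum_eq_zero fun w _ => ?_
      rw [if_neg]
      rw [h0 _ (W.add_mem hv w.2), map_zero]
      exact zero_ne_one
    · rw [← Finset.card_filter, ← Fintype.card_subtype, ← Nat.card_eq_fintype_card]
      have h2 := card_half' hperp hq h0 hcW hv
      have h3 : 2 ^ n = 2 * 2 ^ (n - 1) := by
        rw [← pow_succ']
        congr 1
        omega
      omega
  have h2 : ∑ v : V, (if v ∈ W then 0 else 2 ^ (n - 1)) = (2 ^ (2 * n) - 2 ^ n) * 2 ^ (n - 1) := by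
    rw [Finset.sum_ite, Finset.sum_const_zero, zero_add, Finset.sum_const, smul_eq_mul]
    congr 1
    rw [← Fintype.card_subtype, Fintype.card_subtype_compl, ← Nat.card_eq_fintype_card, hcV]
    congr 1
    rw [← hcW, Nat.card_eq_fintype_card]
  have h3 : ∑ v : V, ∑ w : W, (if Tr (q0 (v + w)) = 1 then 1 else 0) = Nat.card {v : V // Tr (q0 v) = 1} * 2 ^ n := by
    rw [Finset.sum_comm]
    have h4 : ∀ w ∈ (Finset.univ : Finset W), ∑ v : V, (if Tr (q0 (v + w)) = 1 then 1 else 0) =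
        Nat.card {v : V // Tr (q0 v) = 1} := by
      intro w _
      rw [Nat.card_eq_fintype_card, Fintype.card_subtype, Finset.card_filter]
      exact Fintype.sum_equiv (Equiv.addRight (w : V)) _ _ fun v => rfl
    rw [Finset.sum_congr rfl h4, Finset.sum_const, smul_eq_mul, Finset.card_univ, ← Nat.card_eq_fintype_card, hcW,
      mul_comm]
  rw [h3, h2] at h1
  have h4 : 2 ^ (2 * n) - 2 ^ n = (2 ^ n - 1) * 2 ^ n := by
    rw [Nat.sub_mul, one_mul, ← pow_add, two_mul]
  rw [h4] at h1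
  have h5 : 0 < 2 ^ n := by positivity
  apply Nat.eq_of_mul_eq_mul_right h5
  rw [h1]
  ring

theorem card_tr_zero [Finite V] (hn : 0 < n) (hperp : ∀ u, (∀ w ∈ W, f u w = 0) → u ∈ W) (hq : IsQ f q0)
    (h0 : ∀ w ∈ W, q0 w = 0) (hcW : Nat.card W = 2 ^ n) (hcV : Nat.card V = 2 ^ (2 * n)) :
    Nat.card {v : V // Tr (q0 v) = 0} = 2 ^ (n - 1) * (2 ^ n + 1) := by
  classical
  have h1 := card_tr_one hn hperp hq h0 hcW hcV
  have h2 : Nat.card V = Nat.card {v // Tr (q0 v) = 1} + Nat.card {v // ¬ Tr (q0 v) = 1} := by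
    rw [← Nat.card_congr (Equiv.sumCompl fun v => Tr (q0 v) = 1), Nat.card_sum]
  have h3 : Nat.card {v // ¬ Tr (q0 v) = 1} = Nat.card {v // Tr (q0 v) = 0} := by
    refine Nat.card_congr (Equiv.subtypeEquivRight fun v => ?_)
    have : ∀ x : ZMod 2, ¬ x = 1 ↔ x = 0 := by decide
    exact this _
  rw [hcV, h1, h3] at h2
  obtain ⟨k, rfl⟩ : ∃ k, n = k + 1 := ⟨n - 1, by omega⟩
  have h4 : 2 ^ (2 * (k + 1)) = 4 * (2 ^ k * 2 ^ k) := by
    rw [← pow_add, show (4 : ℕ) = 2 ^ 2 by norm_num, ← pow_add]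
    congr 1
    ring
  have h5 : 2 ^ (k + 1) = 2 * 2 ^ k := by rw [pow_succ']
  rw [Nat.add_sub_cancel] at h2 ⊢
  rw [h4, h5] at h2
  rw [h5]
  have h6 : 1 ≤ 2 ^ k := Nat.one_le_two_pow
  generalize 2 ^ k = z at *
  obtain ⟨y, rfl⟩ : ∃ y, z = y + 1 := ⟨z - 1, by omega⟩
  have h7 : 2 * (y + 1) - 1 = 2 * y + 1 := by omega
  rw [h7] at h2
  nlinarith [h2]

end count

end Cfsg.Agent.H383.Rg
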